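import Mathlib.Algebra.IsPrimePow
import Mathlib.GroupTheory.SpecificGroups.Cyclic

/-!
# Groups whose cyclic subgroups of prime power order are TI-subgroups
-/

set_option autoImplicit false

namespace CfsgLib.CyclicTI

/-- Every cyclic subgroup of prime power order meets each of its conjugates trivially or entirely. -/
def TI (G : Type*) [Group G] : Prop :=
  ∀ H : Subgroup G, IsCyclic H → IsPrimePow (Nat.card H) → ∀ g : G,
    H.map (MulAut.conj g).toMonoidHom = H ∨ H.map (MulAut.conj g).toMonoidHom ⊓ H = ⊥

end CfsgLib.CyclicTI
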